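import Mathlib
import Cfsg.Agent.Spor.CZ.Abs
import Cfsg.Agent.Spor.MX.Co1Link

/-!
Words in coded matrices: equalities, inequalities, lower bounds for orbits and conjugacy classes; the involution `tO`
which is `+1` on an octad and `-1` outside, and the minimal vectors it fixes.
-/

set_option autoImplicit false
set_option maxRecDepth 100000
set_option exponentiation.threshold 100000

namespace Cfsg.Agent.Spor.CZ

open Subgroup MulAction Cfsg.Agent.Spor.Leech Cfsg.Agent.Spor.MX
open Cfsg.Agent.Spor.LC hiding appW cd_evalW
open Cfsg.Agent.Spor.Golay (ptIdx ptOf maskSet gbMask ptIdx_ptOf ptIdx_lt ptOf_ptIdx)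

/-- All letters are automorphisms of the lattice. -/
def Ok (R : ℕ → ℕ) (M : ℕ) : Prop := allLt M (fun l => matOK (R l)) = true

/-- The letters. -/
noncomputable abbrev L (R : ℕ → ℕ) : ℕ → Co0 := fun l => el (R l)

/-- Two words agree. -/
noncomputable def wEq (R : ℕ → ℕ) (M : ℕ) (v w : List ℕ) : Bool :=
  band (band (lettersLt M v) (lettersLt M w)) (allLt 24 fun j => Nat.beq (appW R v (c8 j)) (appW R w (c8 j)))

/-- Two words differ. -/
noncomputable def wNe (R : ℕ → ℕ) (M : ℕ) (v w : List ℕ) : Bool :=
  band (band (lettersLt M v) (lettersLt M w)) (!allLt 24 fun j => Nat.beq (appW R v (c8 j)) (appW R w (c8 j)))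

/-- The word maps the vector with code `a` to the vector with code `b`. -/
noncomputable def wMap (R : ℕ → ℕ) (M : ℕ) (w : List ℕ) (a b : ℕ) : Bool :=
  band (lettersLt M w) (Nat.beq (appW R w a) b)

section

variable {R : ℕ → ℕ} {M : ℕ}

theorem Ok.cd (h : Ok R M) {w : List ℕ} (hw : lettersLt M w = true) {x : Λ} (hx : nm x ≤ 64) :
    cd ((evalW (L R) w • x : Λ) : Vec) = appW R w (cd (x : Vec)) := cd_evalW ((allLt_iff _ _).1 h) hw hx

theorem Ok.eq_iff (h : Ok R M) {v w : List ℕ} (hv : lettersLt M v = true) (hw : lettersLt M w = true) :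
    (allLt 24 fun j => Nat.beq (appW R v (c8 j)) (appW R w (c8 j))) = true ↔ evalW (L R) v = evalW (L R) w := by
  rw [allLt_iff]
  constructor
  · intro h1
    refine co0_ext_e8 fun p => cd_inj_nm (by rw [nm_smul, nm_e8]) (by rw [nm_smul, nm_e8]) ?_
    rw [h.cd hv (nm_e8 p).le, h.cd hw (nm_e8 p).le, (cd_e8 p).1]
    exact (nbeq_iff _ _).1 (h1 _ (ptIdx_lt p))
  · intro h1 j hj
    rw [nbeq_iff, ← ptIdx_ptOf hj, ← (cd_e8 _).1, ← h.cd hv (nm_e8 _).le, ← h.cd hw (nm_e8 _).le, h1]

theorem Ok.eq (h : Ok R M) {v w : List ℕ} (h1 : wEq R M v w = true) : evalW (L R) v = evalW (L R) w := by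
  rw [wEq, band_iff, band_iff] at h1
  exact (h.eq_iff h1.1.1 h1.1.2).1 h1.2

theorem Ok.ne (h : Ok R M) {v w : List ℕ} (h1 : wNe R M v w = true) : evalW (L R) v ≠ evalW (L R) w := by
  rw [wNe, band_iff, band_iff] at h1
  intro h2
  rw [(h.eq_iff h1.1.1 h1.1.2).2 h2] at h1
  exact absurd h1.2 (by simp)

theorem Ok.map (h : Ok R M) {w : List ℕ} {a b : ℕ} (h1 : wMap R M w a b = true) {x y : Λ} (hx : nm x ≤ 64)
    (hy : nm y ≤ 64) (ha : LC.cd (x : Vec) = a) (hb : LC.cd (y : Vec) = b) : evalW (L R) w • x = y := by
  rw [wMap, band_iff, nbeq_iff] at h1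
  exact cd_inj_nm (by rwa [nm_smul]) hy (by rw [h.cd h1.1 hx, ha, hb, h1.2])

/-- The first `m` letters fix a vector. -/
theorem Ok.fix (h : Ok R M) {m a : ℕ} (h1 : allLt m (fun l => wMap R M [l] a a) = true) {x : Λ} (hx : nm x ≤ 64)
    (ha : LC.cd (x : Vec) = a) : ∀ l < m, L R l ∈ stabilizer Co0 x := fun l hl => by
  simpa using h.map ((allLt_iff _ _).1 h1 l hl) hx hx ha ha

/-- The first `m` letters commute with the letter `x`. -/
theorem Ok.cen (h : Ok R M) {m x : ℕ} (h1 : allLt m (fun l => wEq R M [x, l] [l, x]) = true) :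
    ∀ l < m, L R l ∈ centralizer {L R x} := fun l hl => by
  simpa [mem_centralizer_singleton] using h.eq ((allLt_iff _ _).1 h1 l hl)

theorem Ok.orderOf (h : Ok R M) {x p : ℕ} (hp : p.Prime) (h1 : wEq R M (List.replicate p x) [] = true)
    (h2 : wNe R M [x] [] = true) : orderOf (L R x) = p := by
  have := Fact.mk hp
  refine orderOf_eq_prime ?_ (by simpa using h.ne h2)
  simpa [evalW] using h.eq h1

/-- The word coded by a number, in base 16 with leading digit 1. -/
noncomputable def dw (n : ℕ) : List ℕ :=
  Nat.rec (motive := fun _ => ℕ → List ℕ) (fun _ => [])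
    (fun _ ih n => Bool.rec (Nat.land n 15 :: force (Nat.shiftRight n 4) ih) [] (Nat.ble n 1)) 32 n

/-- The words stored in a tree. -/
noncomputable def wAt (t : BT) (i : ℕ) : List ℕ := force (gAt 64 0xffffffffffffffff t i) dw

/-- The images of the vector with code `c` under the words `f (ws i)` increase. -/
noncomputable def incB (R : ℕ → ℕ) (M m : ℕ) (f : List ℕ → List ℕ) (ws : ℕ → List ℕ) (c N i : ℕ) : Bool :=
  band (band (lettersLt m (ws i)) (lettersLt M (f (ws i)))) (bor (Nat.beq (Nat.succ i) N)
    (blt (appW R (f (ws i)) c) (appW R (f (ws (Nat.succ i))) c)))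

theorem Ok.idx (h : Ok R M) {m : ℕ} {H K : Subgroup Co0} (hH : ∀ l < m, L R l ∈ H) {f : List ℕ → List ℕ}
    {φ : Co0 → Co0} (hf : ∀ w, lettersLt m w = true → evalW (L R) (f w) = φ (evalW (L R) w)) {a : Λ}
    (ha : nm a ≤ 64) (hK : ∀ g, ∀ k ∈ K, φ (g * k) • a = φ g • a) {c N : ℕ} (hc : LC.cd (a : Vec) = c)
    {ws : ℕ → List ℕ} (h1 : ∀ i < N, incB R M m f ws c N i = true) :
    N * Nat.card (H ⊓ K : Subgroup Co0) ≤ Nat.card H := by
  simp only [incB, band_iff, bor_iff, nbeq_iff, blt_iff] at h1
  refine mul_card_le (fun g => LC.cd ((φ g • a : Λ) : Vec)) (fun g k hk => by rw [hK g k hk])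
    (g := fun i => evalW (L R) (ws i))
    (fun i hi => evalW_mem fun x hx => hH x ((lettersLt_iff _ _).1 (h1 i hi).1.1 x hx)) fun i hi => ?_
  have h2 := h1 i (by omega)
  have h3 := h1 _ hi
  show LC.cd ((φ _ • a : Λ) : Vec) < LC.cd ((φ _ • a : Λ) : Vec)
  rw [← hf _ h2.1.1, ← hf _ h3.1.1, h.cd h2.1.2 ha, h.cd h3.1.2 ha, hc]
  exact h2.2.resolve_left (by simp only [Nat.succ_eq_add_one]; omega)

/-- A lower bound for an orbit. -/
theorem Ok.idx_pt (h : Ok R M) {m : ℕ} {H : Subgroup Co0} (hH : ∀ l < m, L R l ∈ H) {a : Λ}
    (ha : nm a ≤ 64) {c N : ℕ} (hc : LC.cd (a : Vec) = c) {ws : ℕ → List ℕ}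
    (h1 : ∀ i < N, incB R M m (fun w => w) ws c N i = true) :
    N * Nat.card (H ⊓ stabilizer Co0 a : Subgroup Co0) ≤ Nat.card H :=
  h.idx hH (φ := id) (fun _ _ => rfl) ha (fun g k hk => by rw [id, mul_smul, show k • a = a from hk, id]) hc h1

/-- The conjugate of the letter `x` by a word. -/
noncomputable def cjW (iv : ℕ → ℕ) (x : ℕ) (w : List ℕ) : List ℕ := appL w (x :: invW iv w)

/-- A lower bound for a conjugacy class. -/
theorem Ok.idx_cj (h : Ok R M) {m : ℕ} {H : Subgroup Co0} (hH : ∀ l < m, L R l ∈ H) {iv : ℕ → ℕ}
    (hi : allLt m (fun l => wEq R M [l, iv l] []) = true) {x c N : ℕ} (hc : okN 32 c = true) {ws : ℕ → List ℕ}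
    (h1 : ∀ i < N, incB R M m (cjW iv x) ws c N i = true) :
    N * Nat.card (H ⊓ centralizer {L R x} : Subgroup Co0) ≤ Nat.card H :=
  h.idx hH (φ := fun g => g * L R x * g⁻¹) (fun w hw => by
      rw [cjW, appL_eq, evalW_append, evalW_cons, evalW_invW fun l hl => by
        simpa using h.eq ((allLt_iff _ _).1 hi l ((lettersLt_iff _ _).1 hw l hl)), mul_assoc])
    (a := vec c) (by rw [(okN_spec hc).1]; norm_num) (fun g k hk => by
      rw [mul_assoc g, ← mem_centralizer_singleton.1 hk, mul_inv_rev, mul_assoc, mul_assoc, mul_inv_cancel_left,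
        mul_assoc]) (okN_spec hc).2 h1

end

/-! ### Traces -/

/-- Eight times the trace. -/
noncomputable def tau (g : Co0) : ℤ := ∑ i, ((g • e8 i : Λ) : Vec) i

theorem tau_conj (g h : Co0) : tau (g * h * g⁻¹) = tau h := by
  let _ : Invertible (8 : ℚ) := invertibleOfNonzero (by norm_num)
  have e : ∀ a, (matHom ℚ a).trace = ⅟8 * (tau a : ℚ) := fun a => by
    simp only [Matrix.trace, Matrix.diag, matHom_apply, matR, tau, Int.cast_sum, Finset.mul_sum]
  have h1 : (matHom ℚ (g * h * g⁻¹)).trace = (matHom ℚ h).trace := by
    rw [map_mul, Matrix.trace_mul_comm, ← map_mul, ← mul_assoc, inv_mul_cancel, one_mul]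
  rw [e, e] at h1
  exact_mod_cast (mul_right_inj' (Invertible.ne_zero _)).1 h1

theorem tau_neg (g : Co0) : tau (negOne * g) = -tau g := by
  simp only [tau, mul_smul, negOne_smul, ← Finset.sum_neg_distrib]
  rfl

/-! ### The involution attached to an octad -/

/-- An octad through `∞` and `0`. -/
def O : Finset GolayPt := maskSet (gbMask 0)

theorem isCode_O : IsCode O := isCode_gb (by norm_num)

/-- The sign change outside the octad. -/
noncomputable def tO : Co0 := sign Oᶜ isCode_O.compl

/-- The matrix of `tO`. -/
def rT : ℕ :=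
  0x1000000000000000000000000000000000000000000000000000000000000000000000000000000000000000000000007fffffffffffffffffffffffffffffffffffffffffffffffffffffffffffffffffffffffffffffffffffffffffff7fffffffffffffffffffffffffffffffffffffffffffffffffffffffffffffffffffffffffffffffffffffffffff7fffffffffffffffffffffffffffffffffffffffffffffffffffffffffffffffffffffffffffffffffffffffffff7fffffffffffffffffffffffffffffffffffffffffffffffffffffffffffffffffffffffffffffffffffffffffff7fffffffffffffffffffffffffffffffffffffffffffffffffffffffffffffffffffffffffffffffffffffffffff7fffffffffffffffffffffffffffffffffffffffffffffffffffffffffffffffffffffffffffffffffffffffffff7fffffffffffffffffffffffffffffffffffffffffffffffffffffffffffffffffffffffffffffffffffffffffff7fffffffffffffffffffffffffffffffffffffffffffffffffffffffffffffffffffffffffffffffffffffffffff7fffffffffffffffffffffffffffffffffffffffffffffffffffffffffffffffffffffffffffffffffffffffffff800000000000000000000000000000000000000000000000000000000000000000000000000000000000000000007ffffffffffffffffffffffffffffffffffffffff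fffffffffffffffffffffffffffffffffffffffffffffffffff7fffffffffffffffffffffffffffffffffffffffffffffffffffffffffffffffffffffffffffffffffffffffffff800000000000000000000000000000000000000000000000000000000000000000000000000000000000000000007fffffffffffffffffffffffffffffffffffffffffffffffffffffffffffffffffffffffffffffffffffffffffff800000000000000000000000000000000000000000000000000000000000000000000000000000000000000000007fffffffffffffffffffffffffffffffffffffffffffffffffffffffffffffffffffffffffffffffffffffffffff800000000000000000000000000000000000000000000000000000000000000000000000000000000000000000007fffffffffffffffffffffffffffffffffffffffffffffffffffffffffffffffffffffffffffffffffffffffffff7fffffffffffffffffffffffffffffffffffffffffffffffffffffffffffffffffffffffffffffffffffffffffff800000000000000000000000000000000000000000000000000000000000000000000000000000000000000000007fffffffffffffffffffffffffffffffffffffffffffffffffffffffffffffffffffffffffffffffffffffffffff8000000000000000000000000000000000000000000000000000000000000000000000000000000000000000000080000000000000000000000000000000000000000000000000000000000000000000000000000000000000000000800000000000000000000000000000000000000000000000000000000000000000000000000000000000000000000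

theorem matOK_rT : matOK rT = true := by decide +kernel

theorem el_rT : el rT = tO := co0_ext_e8 fun p => by
  have h1 : ∀ p : GolayPt, app rT (c8 (ptIdx p)) = if p ∈ Oᶜ then cm8 (ptIdx p) else c8 (ptIdx p) := by
    decide +kernel
  refine cd_inj_nm (by rw [nm_smul, nm_e8]) (by rw [nm_smul, nm_e8]) ?_
  rw [cd_el matOK_rT (nm_e8 p).le, (cd_e8 p).1, h1, tO, sign_e8]
  split_ifs
  exacts [(cd_e8 p).2.symm, (cd_e8 p).1.symm]

theorem tO_sq : tO * tO = 1 := sign_mul_self _ _

theorem tau_tO : tau tO = -64 := by
  simp only [tau, tO, sign_apply, e8_apply, if_true]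
  decide +kernel

theorem conj_tO_ne (g : Co0) : g * tO * g⁻¹ ≠ negOne * tO := fun h => by
  have := tau_conj g tO
  rw [h, tau_neg, tau_tO] at this
  omega

/-- The codes of the vectors of shape `(±2⁸)` on the octad. -/
noncomputable def codeO (f : ℕ → Bool) : ℕ :=
  pkR (fun i => Bool.rec 8 (Bool.rec 10 6 (f i)) (Nat.testBit 8398155 i)) 24

/-- Eight signs. -/
def sel8 (a b c d e f g h : Bool) (i : ℕ) : Bool :=
  if i = 0 then a else if i = 1 then b else if i = 3 then c else if i = 6 then d else if i = 8 then e else
    if i = 10 then f else if i = 13 then g else h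

theorem fix_tO_complete {chk : ℕ → Bool} (hA : enA (fun n => bor (!Nat.beq (app rT n) n) (chk n)) = true)
    (hB : ∀ a b c d e f g h, force (codeO (sel8 a b c d e f g h))
      (fun n => bor (!Nat.beq (n % 65535 % 8) 0) (chk n)) = true)
    {x : Λ} (hx : nm x = 32) (ht : tO • x = x) : chk (cd (x : Vec)) = true := by
  have hb : Bd (x : Vec) := bd_of_nm (by omega)
  have h0 : ∀ i, i ∉ O → (x : Vec) i = 0 := fun i hi => by
    have := sign_apply Oᶜ isCode_O.compl x i
    rw [show sign Oᶜ isCode_O.compl • x = x from ht, if_pos (Finset.mem_compl.2 hi)] at this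
    omega
  have h1 : bor (!Nat.beq (app rT (cd (x : Vec))) (cd (x : Vec))) (chk (cd (x : Vec))) = true →
      chk (cd (x : Vec)) = true := fun h => by
    rw [← cd_el matOK_rT (by omega), el_rT, ht, bor_iff] at h
    exact h.resolve_left (by simp)
  rcases shape32 x.2 hx with ⟨p, q, hpq, hp, hq, h⟩ | ⟨o, he, h8, h⟩ | ⟨c, p, hc, -, -⟩
  · rcases lt_trichotomy (ptIdx p) (ptIdx q) with a | a | a
    · exact h1 (completeA hA hb a hq hp fun i a b => h i b a)
    · exact absurd (Golay.ptIdx_injective a) hpq
    · exact h1 (completeA hA hb a hp hq h)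
  · have e : o = O := Finset.eq_of_subset_of_card_le (fun i hi => by
      by_contra h2
      have := h i
      rw [if_pos hi, h0 i h2] at this
      simp at this) (by rw [h8, O, card_gb (by norm_num)])
    subst e
    let f : ℕ → Bool := fun i => decide ((x : Vec) (ptOf i) = -2)
    have h2 : cd (x : Vec) = codeO (sel8 (f 0) (f 1) (f 3) (f 6) (f 8) (f 10) (f 13) (f 23)) := by
      have h3 : codeO f = codeO (sel8 (f 0) (f 1) (f 3) (f 6) (f 8) (f 10) (f 13) (f 23)) := by
        rw [codeO, codeO, pkR_eq, pkR_eq]
        refine pk_congr fun i hi => ?_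
        interval_cases i <;> rfl
      rw [← h3, codeO, pkR_eq]
      refine cd_eq_pk fun i hi => ?_
      have h4 := h (ptOf i)
      have h5 : ptOf i ∈ O ↔ Nat.testBit 8398155 i = true := by
        rw [O, maskSet, Finset.mem_filter, ptIdx_ptOf hi]
        exact and_iff_right (Finset.mem_univ _)
      cases h6 : Nat.testBit 8398155 i with
      | false =>
        rw [h0 _ (by rw [h5, h6]; simp)]
        rfl
      | true =>
        rw [if_pos (h5.2 h6)] at h4
        rcases eq_or_eq_neg_of_abs_eq h4 with h7 | h7
        · rw [show f i = false by simp [f, h7], h7]; rfl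
        · rw [show f i = true by simp [f, h7], h7]; rfl
    have h3 := hB (f 0) (f 1) (f 3) (f 6) (f 8) (f 10) (f 13) (f 23)
    rw [force_eq, ← h2, bor_iff] at h3
    refine h3.resolve_left ?_
    have h4 := cd_mod hb
    have h5 := he.2.2
    have h6 : cd (x : Vec) % 65535 % 8 = 0 := by omega
    simp [h6]
  · have h2 := hc.odd (some 2)
    rw [h0 _ (by decide +kernel)] at h2
    omega

/-- The minimal vectors fixed by `tO`, in compact form. -/
def L240 : List ℕ :=
  [0x8888888888888888888888cc, 0x8888888888888888888888c4, 0x88888888888888888888884c, 0x888888888888888888888844,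
  0x88888888888888888888c88c, 0x88888888888888888888c884, 0x88888888888888888888488c, 0x888888888888888888884884,
  0x88888888888888888888c8c8, 0x88888888888888888888c848, 0x8888888888888888888848c8, 0x888888888888888888884848,
  0x88888888888888888c88888c, 0x88888888888888888c888884, 0x88888888888888888488888c, 0x888888888888888884888884,
  0x88888888888888888c8888c8, 0x88888888888888888c888848, 0x8888888888888888848888c8, 0x888888888888888884888848,
  0x88888888888888888c88c888, 0x88888888888888888c884888, 0x88888888888888888488c888, 0x888888888888888884884888,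
  0x888888888888888c8888888c, 0x888888888888888c88888884, 0x88888888888888848888888c, 0x888888888888888488888884,
  0x888888888888888c888888c8, 0x888888888888888c88888848, 0x8888888888888884888888c8, 0x888888888888888488888848,
  0x888888888888888c8888c888, 0x888888888888888c88884888, 0x88888888888888848888c888, 0x888888888888888488884888,
  0x888888888888888c8c888888, 0x888888888888888c84888888, 0x88888888888888848c888888, 0x888888888888888484888888,
  0x8888888888888c888888888c, 0x8888888888888c8888888884, 0x88888888888884888888888c, 0x888888888888848888888884,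
  0x8888888888888c88888888c8, 0x8888888888888c8888888848, 0x8888888888888488888888c8, 0x888888888888848888888848,
  0x8888888888888c888888c888, 0x8888888888888c8888884888, 0x88888888888884888888c888, 0x888888888888848888884888,
  0x8888888888888c888c888888, 0x8888888888888c8884888888, 0x88888888888884888c888888, 0x888888888888848884888888,
  0x8888888888888c8c88888888, 0x8888888888888c8488888888, 0x888888888888848c88888888, 0x888888888888848488888888,
  0x8888888888c888888888888c, 0x8888888888c8888888888884, 0x88888888884888888888888c, 0x888888888848888888888884,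
  0x8888888888c88888888888c8, 0x8888888888c8888888888848, 0x8888888888488888888888c8, 0x888888888848888888888848,
  0x8888888888c888888888c888, 0x8888888888c8888888884888, 0x88888888884888888888c888, 0x888888888848888888884888,
  0x8888888888c888888c888888, 0x8888888888c8888884888888, 0x88888888884888888c888888, 0x888888888848888884888888,
  0x8888888888c8888c88888888, 0x8888888888c8888488888888, 0x888888888848888c88888888, 0x888888888848888488888888,
  0x8888888888c88c8888888888, 0x8888888888c8848888888888, 0x8888888888488c8888888888, 0x888888888848848888888888,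
  0xc8888888888888888888888c, 0xc88888888888888888888884, 0x48888888888888888888888c, 0x488888888888888888888884,
  0xc888888888888888888888c8, 0xc88888888888888888888848, 0x4888888888888888888888c8, 0x488888888888888888888848,
  0xc8888888888888888888c888, 0xc88888888888888888884888, 0x48888888888888888888c888, 0x488888888888888888884888,
  0xc8888888888888888c888888, 0xc88888888888888884888888, 0x48888888888888888c888888, 0x488888888888888884888888,
  0xc88888888888888c88888888, 0xc88888888888888488888888, 0x488888888888888c88888888, 0x488888888888888488888888,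
  0xc888888888888c8888888888, 0xc88888888888848888888888, 0x4888888888888c8888888888, 0x488888888888848888888888,
  0xc888888888c8888888888888, 0xc88888888848888888888888, 0x4888888888c8888888888888, 0x488888888848888888888888,
  0xa888888888a88a8a8a88a8aa, 0xa888888888a88a8a8a88a866, 0xa888888888a88a8a8a8868a6, 0xa888888888a88a8a8a88686a,
  0xa888888888a88a8a8688a8a6, 0xa888888888a88a8a8688a86a, 0xa888888888a88a8a868868aa, 0xa888888888a88a8a86886866,
  0xa888888888a88a868a88a8a6, 0xa888888888a88a868a88a86a, 0xa888888888a88a868a8868aa, 0xa888888888a88a868a886866,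
  0xa888888888a88a868688a8aa, 0xa888888888a88a868688a866, 0xa888888888a88a86868868a6, 0xa888888888a88a868688686a,
  0xa888888888a8868a8a88a8a6, 0xa888888888a8868a8a88a86a, 0xa888888888a8868a8a8868aa, 0xa888888888a8868a8a886866,
  0xa888888888a8868a8688a8aa, 0xa888888888a8868a8688a866, 0xa888888888a8868a868868a6, 0xa888888888a8868a8688686a,
  0xa888888888a886868a88a8aa, 0xa888888888a886868a88a866, 0xa888888888a886868a8868a6, 0xa888888888a886868a88686a,
  0xa888888888a886868688a8a6, 0xa888888888a886868688a86a, 0xa888888888a88686868868aa, 0xa888888888a8868686886866,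
  0xa888888888688a8a8a88a8a6, 0xa888888888688a8a8a88a86a, 0xa888888888688a8a8a8868aa, 0xa888888888688a8a8a886866,
  0xa888888888688a8a8688a8aa, 0xa888888888688a8a8688a866, 0xa888888888688a8a868868a6, 0xa888888888688a8a8688686a,
  0xa888888888688a868a88a8aa, 0xa888888888688a868a88a866, 0xa888888888688a868a8868a6, 0xa888888888688a868a88686a,
  0xa888888888688a868688a8a6, 0xa888888888688a868688a86a, 0xa888888888688a86868868aa, 0xa888888888688a8686886866,
  0xa88888888868868a8a88a8aa, 0xa88888888868868a8a88a866, 0xa88888888868868a8a8868a6, 0xa88888888868868a8a88686a,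
  0xa88888888868868a8688a8a6, 0xa88888888868868a8688a86a, 0xa88888888868868a868868aa, 0xa88888888868868a86886866,
  0xa8888888886886868a88a8a6, 0xa8888888886886868a88a86a, 0xa8888888886886868a8868aa, 0xa8888888886886868a886866,
  0xa8888888886886868688a8aa, 0xa8888888886886868688a866, 0xa888888888688686868868a6, 0xa8888888886886868688686a,
  0x6888888888a88a8a8a88a8a6, 0x6888888888a88a8a8a88a86a, 0x6888888888a88a8a8a8868aa, 0x6888888888a88a8a8a886866,
  0x6888888888a88a8a8688a8aa, 0x6888888888a88a8a8688a866, 0x6888888888a88a8a868868a6, 0x6888888888a88a8a8688686a,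
  0x6888888888a88a868a88a8aa, 0x6888888888a88a868a88a866, 0x6888888888a88a868a8868a6, 0x6888888888a88a868a88686a,
  0x6888888888a88a868688a8a6, 0x6888888888a88a868688a86a, 0x6888888888a88a86868868aa, 0x6888888888a88a8686886866,
  0x6888888888a8868a8a88a8aa, 0x6888888888a8868a8a88a866, 0x6888888888a8868a8a8868a6, 0x6888888888a8868a8a88686a,
  0x6888888888a8868a8688a8a6, 0x6888888888a8868a8688a86a, 0x6888888888a8868a868868aa, 0x6888888888a8868a86886866,
  0x6888888888a886868a88a8a6, 0x6888888888a886868a88a86a, 0x6888888888a886868a8868aa, 0x6888888888a886868a886866,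
  0x6888888888a886868688a8aa, 0x6888888888a886868688a866, 0x6888888888a88686868868a6, 0x6888888888a886868688686a,
  0x6888888888688a8a8a88a8aa, 0x6888888888688a8a8a88a866, 0x6888888888688a8a8a8868a6, 0x6888888888688a8a8a88686a,
  0x6888888888688a8a8688a8a6, 0x6888888888688a8a8688a86a, 0x6888888888688a8a868868aa, 0x6888888888688a8a86886866,
  0x6888888888688a868a88a8a6, 0x6888888888688a868a88a86a, 0x6888888888688a868a8868aa, 0x6888888888688a868a886866,
  0x6888888888688a868688a8aa, 0x6888888888688a868688a866, 0x6888888888688a86868868a6, 0x6888888888688a868688686a,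
  0x688888888868868a8a88a8a6, 0x688888888868868a8a88a86a, 0x688888888868868a8a8868aa, 0x688888888868868a8a886866,
  0x688888888868868a8688a8aa, 0x688888888868868a8688a866, 0x688888888868868a868868a6, 0x688888888868868a8688686a,
  0x68888888886886868a88a8aa, 0x68888888886886868a88a866, 0x68888888886886868a8868a6, 0x68888888886886868a88686a,
  0x68888888886886868688a8a6, 0x68888888886886868688a86a, 0x6888888888688686868868aa, 0x688888888868868686886866]

theorem mem_L240 {x : Λ} (hx : nm x = 32) (ht : tO • x = x) : cd (x : Vec) ∈ L240.map spr :=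
  memL_iff.1 (fix_tO_complete (chk := memL (L240.map spr)) (by decide +kernel) (by decide +kernel) hx ht)

/-- An orbit of a subgroup of the centraliser of `tO` on the fixed minimal vectors. -/
theorem card_le_fix {H : Subgroup Co0} (hH : H ≤ centralizer {tO}) {v : Λ} (hv : nm v = 32) (ht : tO • v = v)
    (q : ℕ → Bool) (hq : ∀ g ∈ H, q (cd ((g • v : Λ) : Vec)) = true) :
    Nat.card H ≤ ((L240.map spr).filter q).length * Nat.card (H ⊓ stabilizer Co0 v : Subgroup Co0) :=
  card_le_mul (fun y : Λ => cd (y : Vec)) (S := {y | nm y = 32 ∧ tO • y = y ∧ q (cd (y : Vec)) = true})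
    (fun _ a _ b e => cd_inj_nm (by rw [a.1]; norm_num) (by rw [b.1]; norm_num) e)
    (fun g hg => ⟨by rwa [nm_smul], by rw [← mul_smul, mem_centralizer_singleton.1 (hH hg), mul_smul, ht], hq g hg⟩)
    fun _ hy => List.mem_filter.2 ⟨mem_L240 hy.1 hy.2.1, hy.2.2⟩

theorem card_le_240 {H : Subgroup Co0} (hH : H ≤ centralizer {tO}) {v : Λ} (hv : nm v = 32) (ht : tO • v = v) :
    Nat.card H ≤ 240 * Nat.card (H ⊓ stabilizer Co0 v : Subgroup Co0) := by
  have := card_le_fix hH hv ht (fun _ => true) fun _ _ => rfl
  rwa [show ((L240.map spr).filter fun _ => true).length = 240 by decide +kernel] at this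

end Cfsg.Agent.Spor.CZ
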